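import Groth.Prelude.Def_DRing2
import Groth.Agent.KInj.Ops
import Mathlib.Algebra.Homology.DerivedCategory.TStructure
import Mathlib.Algebra.Homology.DerivedCategory.HomologySequence
import Mathlib.Algebra.Homology.DerivedCategory.FullyFaithful
import Mathlib.Algebra.Homology.DerivedCategory.Linear
import Mathlib.CategoryTheory.Triangulated.TStructure.TruncLTGE
import Mathlib.Algebra.Category.ModuleCat.EnoughInjectives
import Mathlib.CategoryTheory.Preadditive.Injective.Basic
import Mathlib.Algebra.Homology.HomotopyCategory.KInjective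

/-!
# Two-term objects and their first Ext
-/

set_option autoImplicit false
set_option backward.isDefEq.respectTransparency false

universe u

open CategoryTheory Limits Pretriangulated

attribute [local instance] HasDerivedCategory.standard

namespace Groth.Agent.TwoTermExt

variable {R : Type u} [CommRing R]

set_option quotPrecheck false

local notation "D" => Dual.D R
local notation "single" => DerivedCategory.singleFunctor (ModuleCat R)
local notation "hF" => DerivedCategory.homologyFunctor (ModuleCat R)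

theorem isZero_homology_single (n i : ℤ) (hi : i ≠ n) (M : ModuleCat.{u} R) :
    IsZero ((hF i).obj ((single n).obj M)) := by
  rcases lt_or_gt_of_ne hi with h | h
  · exact (DerivedCategory.isGE_iff _ n).1 inferInstance i h
  · exact (DerivedCategory.isLE_iff _ n).1 inferInstance i h

/-- The truncation triangle of a two-term object. -/
theorem exists_triangle (K : D) (hK : ∀ i : ℤ, i ≠ -1 → i ≠ 0 → IsZero ((hF i).obj K)) :
    ∃ (M N : ModuleCat.{u} R) (f : (single (-1)).obj M ⟶ K) (g : K ⟶ (single 0).obj N)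
      (h : (single 0).obj N ⟶ ((single (-1)).obj M)⟦(1 : ℤ)⟧),
      Triangle.mk f g h ∈ distTriang D ∧ Nonempty (M ≅ (hF (-1)).obj K) ∧ Nonempty ((hF 0).obj K ≅ N) := by
  let t := (DerivedCategory.TStructure.t : Triangulated.TStructure D)
  let A := (t.truncLT 0).obj K
  let C := (t.truncGE 0).obj K
  have hT := t.triangleLTGE_distinguished 0 K
  have hAle : DerivedCategory.IsLE A (-1) := t.isLE_truncLT_obj K 0 (-1)
  have hCge : DerivedCategory.IsGE C 0 := inferInstanceAs (t.IsGE ((t.truncGE 0).obj K) 0)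
  have zA : ∀ i : ℤ, -1 < i → IsZero ((hF i).obj A) := (DerivedCategory.isLE_iff A (-1)).1 hAle
  have zC : ∀ i : ℤ, i < 0 → IsZero ((hF i).obj C) := (DerivedCategory.isGE_iff C 0).1 hCge
  let T : Triangle D := (t.triangleLTGE 0).obj K
  haveI hAge : DerivedCategory.IsGE A (-1) := (DerivedCategory.isGE_iff A (-1)).2 fun i hi =>
    (DerivedCategory.HomologySequence.exact₁ T hT (i - 1) i (by omega)).isZero_of_both_zeros
      ((zC (i - 1) (by omega)).eq_of_src _ _) ((hK i (by omega) (by omega)).eq_of_tgt _ _)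
  haveI hCle : DerivedCategory.IsLE C 0 := (DerivedCategory.isLE_iff C 0).2 fun i hi =>
    (DerivedCategory.HomologySequence.exact₃ T hT i (i + 1) rfl).isZero_of_both_zeros
      ((hK i (by omega) (by omega)).eq_of_src _ _) ((zA (i + 1) (by omega)).eq_of_tgt _ _)
  haveI := hAle
  haveI := hCge
  obtain ⟨M, ⟨eA⟩⟩ := DerivedCategory.exists_iso_singleFunctor_obj_of_isGE_of_isLE A (-1)
  obtain ⟨N, ⟨eC⟩⟩ := DerivedCategory.exists_iso_singleFunctor_obj_of_isGE_of_isLE C 0
  haveI : Mono ((hF (-1)).map T.mor₁) :=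
    (DerivedCategory.HomologySequence.mono_homologyMap_mor₁_iff T hT (-2) (-1) (by omega)).2
      ((zC (-2) (by omega)).eq_of_src _ _)
  haveI : Epi ((hF (-1)).map T.mor₁) :=
    (DerivedCategory.HomologySequence.epi_homologyMap_mor₁_iff T hT (-1)).2 ((zC (-1) (by omega)).eq_of_tgt _ _)
  haveI : IsIso ((hF (-1)).map T.mor₁) := isIso_of_mono_of_epi _
  haveI : Mono ((hF 0).map T.mor₂) :=
    (DerivedCategory.HomologySequence.mono_homologyMap_mor₂_iff T hT 0).2 ((zA 0 (by omega)).eq_of_src _ _)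
  haveI : Epi ((hF 0).map T.mor₂) :=
    (DerivedCategory.HomologySequence.epi_homologyMap_mor₂_iff T hT 0 1 (by omega)).2
      ((zA 1 (by omega)).eq_of_tgt _ _)
  haveI : IsIso ((hF 0).map T.mor₂) := isIso_of_mono_of_epi _
  refine ⟨M, N, eA.inv ≫ T.mor₁, T.mor₂ ≫ eC.hom, eC.inv ≫ T.mor₃ ≫ eA.hom⟦(1 : ℤ)⟧', ?_,
    ⟨((DerivedCategory.singleFunctorCompHomologyFunctorIso (ModuleCat.{u} R) (-1)).app M).symm ≪≫
      ((hF (-1)).mapIso eA).symm ≪≫ asIso ((hF (-1)).map T.mor₁)⟩,
    ⟨asIso ((hF 0).map T.mor₂) ≪≫ (hF 0).mapIso eC ≪≫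
      (DerivedCategory.singleFunctorCompHomologyFunctorIso (ModuleCat.{u} R) 0).app N⟩⟩
  refine isomorphic_distinguished _ hT _ (Triangle.isoMk _ _ eA.symm (Iso.refl _) eC.symm ?_ ?_ ?_)
  · show (eA.inv ≫ T.mor₁) ≫ 𝟙 _ = eA.inv ≫ T.mor₁
    rw [Category.comp_id]
  · show (T.mor₂ ≫ eC.hom) ≫ eC.inv = 𝟙 _ ≫ T.mor₂
    erw [Category.assoc, eC.hom_inv_id, Category.comp_id, Category.id_comp]
  · show (eC.inv ≫ T.mor₃ ≫ eA.hom⟦(1 : ℤ)⟧') ≫ eA.inv⟦(1 : ℤ)⟧' = eC.inv ≫ T.mor₃
    erw [Category.assoc, Category.assoc, ← Functor.map_comp, eA.hom_inv_id, CategoryTheory.Functor.map_id,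
      Category.comp_id]

/-- No maps from an object in degree `1` to an injective in degree `-1`. -/
theorem eq_zero_of_injective (N E : ModuleCat.{u} R) [Injective E]
    (φ : ((single 0).obj N)⟦(-1 : ℤ)⟧ ⟶ ((single 0).obj E)⟦(1 : ℤ)⟧) : φ = 0 := by
  let S : DRing.Cx R := ((HomologicalComplex.single (ModuleCat.{u} R) (ComplexShape.up ℤ) 0).obj N)⟦(-1 : ℤ)⟧
  let I : DRing.Cx R := ((HomologicalComplex.single (ModuleCat.{u} R) (ComplexShape.up ℤ) 0).obj E)⟦(1 : ℤ)⟧
  haveI : ∀ i, Injective (I.X i) := fun i => by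
    by_cases hi : i = -1
    · subst hi
      exact Injective.of_iso (HomologicalComplex.singleObjXSelf (ComplexShape.up ℤ) 0 E).symm inferInstance
    · exact (HomologicalComplex.isZero_single_obj_X (ComplexShape.up ℤ) 0 E (i + 1) (by omega)).injective
  haveI : CochainComplex.IsStrictlyGE I (-1) := (CochainComplex.isStrictlyGE_iff _ _).2 fun i hi =>
    HomologicalComplex.isZero_single_obj_X (ComplexShape.up ℤ) 0 E (i + 1) (by omega)
  haveI := CochainComplex.isKInjective_of_injective I (-1)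
  let eS : ((single 0).obj N)⟦(-1 : ℤ)⟧ ≅ DerivedCategory.Q.obj S :=
    (shiftFunctor _ (-1 : ℤ)).mapIso ((DerivedCategory.singleFunctorIsoCompQ (ModuleCat.{u} R) 0).app N) ≪≫
      ((DerivedCategory.Q.commShiftIso (-1 : ℤ)).app _).symm
  let eI : ((single 0).obj E)⟦(1 : ℤ)⟧ ≅ DerivedCategory.Q.obj I :=
    (shiftFunctor _ (1 : ℤ)).mapIso ((DerivedCategory.singleFunctorIsoCompQ (ModuleCat.{u} R) 0).app E) ≪≫
      ((DerivedCategory.Q.commShiftIso (1 : ℤ)).app _).symm
  obtain ⟨w, hw⟩ := KInj.Q_map_surjective (eS.inv ≫ φ ≫ eI.hom)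
  have hw0 : w = 0 := HomologicalComplex.hom_ext _ _ fun i => by
    by_cases hi : i = -1
    · subst hi
      exact (HomologicalComplex.isZero_single_obj_X (ComplexShape.up ℤ) 0 N (-1 + -1) (by omega)).eq_of_src _ _
    · exact (HomologicalComplex.isZero_single_obj_X (ComplexShape.up ℤ) 0 E (i + 1) (by omega)).eq_of_tgt _ _
  rw [hw0, Functor.map_zero] at hw
  rw [← cancel_epi eS.inv, ← cancel_mono eI.hom, Category.assoc, ← hw, comp_zero, zero_comp]

/-- The shifted single functor. -/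
noncomputable def shiftSingle (N : ModuleCat.{u} R) :
    ((single 0).obj N)⟦(1 : ℤ)⟧ ≅ (single (-1)).obj N :=
  ((DerivedCategory.singleFunctors (ModuleCat.{u} R)).shiftIso 1 (-1) 0 (by omega)).app N

theorem isKilled_iff (I : Ideal R) (K : D) (hK : ∀ i : ℤ, i ≠ -1 → i ≠ 0 → IsZero ((hF i).obj K)) :
    (∃ c : ℕ, ∀ (N : ModuleCat.{u} R), ∀ a ∈ I ^ c, ∀ ξ : K ⟶ ((single 0).obj N)⟦(1 : ℤ)⟧, a • ξ = 0) ↔
    ∃ c : ℕ, (∀ a ∈ I ^ c, a • 𝟙 ((hF (-1)).obj K) = 0) ∧
      ∀ (N : ModuleCat.{u} R), ∀ a ∈ I ^ c, ∀ ξ : (single 0).obj ((hF 0).obj K) ⟶ ((single 0).obj N)⟦(1 : ℤ)⟧,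
        a • ξ = 0 := by
  obtain ⟨M, N₀, f, g, h, hT, ⟨eM⟩, ⟨e₀⟩⟩ := exists_triangle K hK
  constructor
  · rintro ⟨c, hc⟩
    refine ⟨c, fun a ha => ?_, fun N a ha ξ => ?_⟩
    · let E := Injective.under M
      let φ : (single (-1)).obj M ⟶ ((single 0).obj E)⟦(1 : ℤ)⟧ := (single (-1)).map (Injective.ι M) ≫ (shiftSingle E).inv
      obtain ⟨ξ, hξ⟩ := Triangle.yoneda_exact₂ _ (inv_rot_of_distTriang _ hT) φ (eq_zero_of_injective N₀ E _)
      change K ⟶ _ at ξ
      change φ = f ≫ ξ at hξ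
      have h0 : (single (-1)).map (a • Injective.ι M) = 0 := by
        rw [← cancel_mono (shiftSingle E).inv, zero_comp, Functor.map_smul, Linear.smul_comp]
        show a • φ = 0
        rw [hξ, ← Linear.comp_smul, hc E a ha ξ, comp_zero]
      have h1 : a • Injective.ι M = 0 := (single (-1)).map_injective (h0.trans ((single (-1)).map_zero _ _).symm)
      have h2 : a • 𝟙 M = 0 := by
        rw [← cancel_mono (Injective.ι M), Linear.smul_comp, Category.id_comp, h1, zero_comp]
      rw [← cancel_epi eM.hom, Linear.comp_smul, Category.comp_id, comp_zero, ← Category.id_comp eM.hom,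
        ← Linear.smul_comp, h2, zero_comp]
    · let η := (single 0).map e₀.inv ≫ ξ
      have hη : g ≫ (a • η) = 0 := by rw [Linear.comp_smul]; exact hc N a ha _
      obtain ⟨z, hz⟩ := Triangle.yoneda_exact₃ _ hT (a • η) hη
      change ((single (-1)).obj M)⟦(1 : ℤ)⟧ ⟶ _ at z
      change a • η = h ≫ z at hz
      obtain ⟨z', rfl⟩ := (shiftFunctor D (1 : ℤ)).map_surjective z
      have : z' = 0 := DerivedCategory.TStructure.t.zero z' (-1) 0 (by omega)
      rw [this, Functor.map_zero, comp_zero] at hz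
      rw [← cancel_epi ((single 0).map e₀.inv), Linear.comp_smul, comp_zero]
      exact hz
  · rintro ⟨c, hc1, hc2⟩
    refine ⟨c + c, fun N a ha ξ => ?_⟩
    rw [pow_add] at ha
    refine Submodule.mul_induction_on ha (fun a₁ h₁ a₂ h₂ => ?_) (fun x y hx hy => by rw [add_smul, hx, hy, add_zero])
    have h2 : a₂ • 𝟙 M = 0 := by
      rw [← cancel_mono eM.hom, Linear.smul_comp, Category.id_comp, zero_comp, ← Category.comp_id eM.hom,
        ← Linear.comp_smul, hc1 a₂ h₂, comp_zero]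
    have hfξ : f ≫ (a₂ • ξ) = 0 := by
      have h2' : a₂ • 𝟙 ((single (-1)).obj M) = 0 := by
        rw [← CategoryTheory.Functor.map_id, ← Functor.map_smul, h2, Functor.map_zero]
      rw [Linear.comp_smul, ← Category.id_comp f, Category.assoc, ← Linear.smul_comp, h2', zero_comp]
    obtain ⟨η, hη⟩ := Triangle.yoneda_exact₂ _ hT (a₂ • ξ) hfξ
    change (single 0).obj N₀ ⟶ _ at η
    change a₂ • ξ = g ≫ η at hη
    have := hc2 N a₁ h₁ ((single 0).map e₀.hom ≫ η)
    rw [← Linear.comp_smul] at this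
    have hη0 : a₁ • η = 0 := by
      rw [← cancel_epi ((single 0).map e₀.hom), this, comp_zero]
    rw [mul_smul, hη, ← Linear.comp_smul, hη0, comp_zero]

end Groth.Agent.TwoTermExt
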